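import Mathlib.RingTheory.AdjoinRoot
import Mathlib.RingTheory.Etale.StandardEtale
import Mathlib.RingTheory.Localization.Away.Basic
import Groth.Agent.Hensel.EtaleResidueExt

/-! # Artin–Schreier algebras -/

universe u

open Polynomial
set_option linter.unusedSectionVars false
set_option linter.style.haveILetI false

namespace Groth.Agent.H44AS

variable (p : ℕ) [hp : Fact p.Prime] {R R' : Type u} [CommRing R] [CommRing R']

/-- `T ^ p - T - c`. -/
noncomputable def asPoly (c : R) : R[X] := X ^ p - (X + C c)

theorem monic_asPoly (c : R) : (asPoly p c).Monic := by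
  refine monic_X_pow_sub ?_
  refine (degree_add_le _ _).trans_lt (max_lt ?_ ?_)
  · exact degree_X_le.trans_lt (by exact_mod_cast hp.out.one_lt)
  · exact degree_C_le.trans_lt (by exact_mod_cast hp.out.pos)

/-- The Artin–Schreier algebra. -/
abbrev ASRing (c : R) : Type u := AdjoinRoot (asPoly p c)

theorem eval₂_asPoly {S : Type*} [CommRing S] (g : R →+* S) (c : R) (t : S) :
    (asPoly p c).eval₂ g t = t ^ p - (t + g c) := by
  simp [asPoly, eval₂_sub, eval₂_add]

theorem root_pow (c : R) :
    (AdjoinRoot.root (asPoly p c)) ^ p = AdjoinRoot.root (asPoly p c) + AdjoinRoot.of _ c := by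
  have := AdjoinRoot.eval₂_root (asPoly p c)
  rwa [eval₂_asPoly, sub_eq_zero] at this

theorem etale_ASRing (h0 : (p : R) = 0) (c : R) : Algebra.Etale R (ASRing p c) :=
  Hensel.etale_adjoinRoot (monic_asPoly p c) (by
    rw [show derivative (asPoly p c) = -1 by simp [asPoly, derivative_X_pow, h0], map_neg, map_one]
    exact isUnit_one.neg)

theorem finite_ASRing (c : R) : Module.Finite R (ASRing p c) := (monic_asPoly p c).finite_adjoinRoot

/-- Change of the Artin–Schreier parameter: `T ↦ T + a`. -/
noncomputable def asMap (h0 : (p : R') = 0) (g : R →+* R') (c : R) (c' a : R')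
    (h : g c = c' + (a ^ p - a)) : ASRing p c →+* ASRing p c' :=
  AdjoinRoot.lift ((AdjoinRoot.of (asPoly p c')).comp g) (AdjoinRoot.root _ + AdjoinRoot.of _ a) (by
    have hp0 : (p : ASRing p c') = 0 := by
      rw [← map_natCast (AdjoinRoot.of (asPoly p c')), h0, map_zero]
    have key : (AdjoinRoot.root (asPoly p c') + AdjoinRoot.of _ a) ^ p =
        AdjoinRoot.root (asPoly p c') ^ p + (AdjoinRoot.of _ a) ^ p := by
      rcases subsingleton_or_nontrivial (ASRing p c') with hs | hn
      · exact Subsingleton.elim _ _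
      · have : CharP (ASRing p c') p := (CharP.charP_iff_prime_eq_zero hp.out).2 hp0
        exact add_pow_char ..
    rw [eval₂_asPoly, key, root_pow, RingHom.comp_apply, h, map_add, map_sub, map_pow]
    ring)

@[simp] theorem asMap_root (h0 : (p : R') = 0) (g : R →+* R') (c : R) (c' a : R') (h) :
    asMap p h0 g c c' a h (AdjoinRoot.root _) = AdjoinRoot.root _ + AdjoinRoot.of _ a :=
  AdjoinRoot.lift_root _

@[simp] theorem asMap_of (h0 : (p : R') = 0) (g : R →+* R') (c : R) (c' a : R') (h) (r : R) :
    asMap p h0 g c c' a h (AdjoinRoot.of _ r) = AdjoinRoot.of _ (g r) :=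
  AdjoinRoot.lift_of _

theorem ASRing.hom_ext {S : Type*} [CommRing S] {c : R} {f g : ASRing p c →+* S}
    (h₁ : ∀ r, f (AdjoinRoot.of _ r) = g (AdjoinRoot.of _ r)) (h₂ : f (AdjoinRoot.root _) = g (AdjoinRoot.root _)) :
    f = g := by
  refine RingHom.ext fun z => ?_
  induction z using AdjoinRoot.induction_on with
  | ih P =>
    induction P using Polynomial.induction_on' with
    | add P Q hP hQ => rw [map_add, map_add, map_add, hP, hQ]
    | monomial n a =>
      rw [← C_mul_X_pow_eq_monomial, map_mul, map_pow, AdjoinRoot.mk_C, AdjoinRoot.mk_X, map_mul,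
        map_mul, map_pow, map_pow, h₁, h₂]

theorem isLocalization_asMap (h0 : (p : R') = 0) (f : R) [Algebra R R'] [IsLocalization.Away f R'] (c : R)
    (c' a : R') (h : algebraMap R R' c = c' + (a ^ p - a)) :
    letI := (asMap p h0 (algebraMap R R') c c' a h).toAlgebra
    IsLocalization.Away (AdjoinRoot.of (asPoly p c) f) (ASRing p c') := by
  set φ := asMap p h0 (algebraMap R R') c c' a h
  letI := φ.toAlgebra
  let L := Localization.Away (AdjoinRoot.of (asPoly p c) f)
  let ι : ASRing p c →+* L := algebraMap _ _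
  have hu : IsUnit (φ (AdjoinRoot.of _ f)) := by
    rw [asMap_of]; exact (IsLocalization.Away.algebraMap_isUnit f).map _
  have hu' : IsUnit ((ι.comp (AdjoinRoot.of _)) f) :=
    IsLocalization.Away.algebraMap_isUnit (S := L) (AdjoinRoot.of (asPoly p c) f)
  let j : R' →+* L := IsLocalization.Away.lift f hu'
  have hj : ∀ r, j (algebraMap R R' r) = ι (AdjoinRoot.of _ r) := fun r => IsLocalization.Away.lift_eq f hu' r
  let G : ASRing p c' →+* L := AdjoinRoot.lift j (ι (AdjoinRoot.root _) - j a) (by
    have hp0 : (p : L) = 0 := by rw [← map_natCast j, h0, map_zero]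
    have key : (ι (AdjoinRoot.root _) - j a) ^ p = ι (AdjoinRoot.root (asPoly p c)) ^ p - j a ^ p := by
      rcases subsingleton_or_nontrivial L with hs | hn
      · exact Subsingleton.elim _ _
      · have : CharP L p := (CharP.charP_iff_prime_eq_zero hp.out).2 hp0
        exact sub_pow_char ..
    have h' : j c' = j (algebraMap R R' c) - (j a ^ p - j a) := by rw [h, map_add, map_sub, map_pow]; ring
    rw [eval₂_asPoly, key, ← map_pow ι, root_pow, map_add, h', hj]
    ring)
  let F : L →+* ASRing p c' := IsLocalization.Away.lift (AdjoinRoot.of (asPoly p c) f) hu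
  have hF : ∀ z, F (ι z) = φ z := fun z => IsLocalization.Away.lift_eq _ hu z
  have hFj : F.comp j = AdjoinRoot.of _ := IsLocalization.ringHom_ext (Submonoid.powers f) (RingHom.ext fun r => by
    show F (j _) = _
    rw [hj, hF, asMap_of]
    rfl)
  have h₁ : F.comp G = RingHom.id _ := ASRing.hom_ext p
    (fun r => by show F (G _) = _; rw [AdjoinRoot.lift_of]; exact RingHom.congr_fun hFj r)
    (by
      show F (G _) = _
      rw [AdjoinRoot.lift_root, map_sub, hF, asMap_root, show F (j a) = _ from RingHom.congr_fun hFj a]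
      simp)
  have hGφ : G.comp φ = ι := ASRing.hom_ext p
    (fun r => by show G (φ _) = _; rw [asMap_of, AdjoinRoot.lift_of, hj])
    (by show G (φ _) = _; rw [asMap_root, map_add, AdjoinRoot.lift_root, AdjoinRoot.lift_of]; ring)
  have h₂ : G.comp F = RingHom.id _ :=
    IsLocalization.ringHom_ext (Submonoid.powers (AdjoinRoot.of (asPoly p c) f)) (RingHom.ext fun z => by
      show G (F (ι z)) = ι z
      rw [hF]; exact RingHom.congr_fun hGφ z)
  let e : L ≃ₐ[ASRing p c] ASRing p c' :=
    AlgEquiv.ofRingEquiv (f := RingEquiv.ofRingHom F G h₁ h₂) hF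
  exact IsLocalization.isLocalization_of_algEquiv _ e

end Groth.Agent.H44AS
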