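import Groth.Agent.H44AS.ASRing
import Groth.Prelude.Def_FEt
import Groth.Prelude.Def_Frob
import Mathlib.AlgebraicGeometry.Sites.SmallAffineZariski
import Mathlib.AlgebraicGeometry.Morphisms.Separated

/-! # The finite étale Artin–Schreier cover attached to a cocycle on affine opens -/

universe u

open CategoryTheory CategoryTheory.Limits AlgebraicGeometry Opposite

set_option linter.style.haveILetI false
set_option linter.unusedSectionVars false
set_option backward.isDefEq.respectTransparency false
set_option backward.isDefEq.respectTransparency.types false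

namespace Groth.Agent.H44AS

open Scheme.AffineZariskiSite

variable (X : Scheme.{u}) (p : ℕ) [hp : Fact p.Prime] [FrobSch.IsCharP X p]

/-- Restriction of sections. -/
noncomputable abbrev resA {V U : X.AffineZariskiSite} (h : V.1 ≤ U.1) : Γ(X, U.1) →+* Γ(X, V.1) :=
  (X.presheaf.map (homOfLE h).op).hom

theorem resA_resA {W V U : X.AffineZariskiSite} (h₁ : W.1 ≤ V.1) (h₂ : V.1 ≤ U.1) (s : Γ(X, U.1)) :
    resA X h₁ (resA X h₂ s) = resA X (h₁.trans h₂) s := by
  show (X.presheaf.map _ ≫ X.presheaf.map _).hom s = _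
  rw [← Functor.map_comp]
  rfl

/-- An additive cocycle on the affine opens with an Artin–Schreier trivialization of its Frobenius
transform. -/
structure Datum where
  /-- The parameters. -/
  c : ∀ U : X.AffineZariskiSite, Γ(X, U.1)
  /-- The cocycle. -/
  a : ∀ {V U : X.AffineZariskiSite}, V.1 ≤ U.1 → Γ(X, V.1)
  hc : ∀ {V U : X.AffineZariskiSite} (h : V.1 ≤ U.1), resA X h (c U) = c V + (a h ^ p - a h)
  ha : ∀ {W V U : X.AffineZariskiSite} (h₁ : W.1 ≤ V.1) (h₂ : V.1 ≤ U.1),
    a (h₁.trans h₂) = resA X h₁ (a h₂) + a h₁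

variable {X p} (D : Datum X p)

theorem Datum.a_self {U : X.AffineZariskiSite} (h : U.1 ≤ U.1) : D.a h = 0 := by
  have h2 := D.ha h h
  rw [show resA X h = RingHom.id _ by
    show (X.presheaf.map (homOfLE h).op).hom = _
    rw [show (homOfLE h).op = 𝟙 (op U.1) from rfl, CategoryTheory.Functor.map_id]; rfl] at h2
  simpa using h2

/-- The restriction map of the sheaf of algebras. -/
noncomputable def Datum.map {V U : X.AffineZariskiSite} (h : V.1 ≤ U.1) :
    ASRing p (D.c U) →+* ASRing p (D.c V) :=
  asMap p (FrobSch.natCast_eq_zero_app X p V.1) (resA X h) (D.c U) (D.c V) (D.a h) (D.hc h)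

/-- The presheaf of algebras. -/
noncomputable def Datum.presheaf : X.AffineZariskiSiteᵒᵖ ⥤ CommRingCat.{u} where
  obj U := CommRingCat.of (ASRing p (D.c U.unop))
  map {U V} i := CommRingCat.ofHom (D.map (toOpens_mono i.unop.le))
  map_id U := by
    refine CommRingCat.hom_ext (ASRing.hom_ext p (fun r => ?_) ?_)
    · show D.map _ _ = _
      rw [Datum.map, asMap_of]
      show AdjoinRoot.of _ ((X.presheaf.map (𝟙 _)).hom r) = _
      rw [CategoryTheory.Functor.map_id]; rfl
    · show D.map _ _ = _
      rw [Datum.map, asMap_root, D.a_self, map_zero, add_zero]; rfl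
  map_comp {U V W} i j := by
    have hi := toOpens_mono i.unop.le
    have hj := toOpens_mono j.unop.le
    refine CommRingCat.hom_ext (ASRing.hom_ext p (fun r => ?_) ?_)
    · show D.map _ _ = D.map hj (D.map hi _)
      simp only [Datum.map, asMap_of, resA_resA]
    · show D.map _ _ = D.map hj (D.map hi _)
      simp only [Datum.map, asMap_root, map_add, asMap_of, D.ha hj hi]
      ring

/-- The structure map. -/
noncomputable def Datum.alpha : (toOpensFunctor X).op ⋙ X.presheaf ⟶ D.presheaf where
  app U := CommRingCat.ofHom (AdjoinRoot.of (asPoly p (D.c U.unop)))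
  naturality U V i := by
    refine CommRingCat.hom_ext (RingHom.ext fun r => ?_)
    show AdjoinRoot.of _ _ = D.map (toOpens_mono i.unop.le) (AdjoinRoot.of _ r)
    rw [Datum.map, asMap_of]
    rfl

theorem Datum.coequifibered : D.alpha.Coequifibered := by
  refine coequifibered_iff_forall_isLocalizationAway.mpr fun U f => ?_
  letI : Algebra Γ(X, U.1) Γ(X, (U.basicOpen f).1) :=
    (resA X (toOpens_mono (U.basicOpen_le f))).toAlgebra
  haveI : IsLocalization.Away f Γ(X, (U.basicOpen f).1) := U.2.isLocalization_basicOpen f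
  exact isLocalization_asMap p (FrobSch.natCast_eq_zero_app X p _) f (D.c U) (D.c (U.basicOpen f))
    (D.a (toOpens_mono (U.basicOpen_le f))) (D.hc _)

/-- The gluing datum. -/
noncomputable def Datum.glue : (directedCover X).RelativeGluingData := relativeGluingData D.coequifibered

instance : (D.glue.functor ⋙ Scheme.forget).IsLocallyDirected :=
  Scheme.Cover.RelativeGluingData.instIsLocallyDirectedI₀CompFunctorForgetOfIsThin ..

/-- The Artin–Schreier cover. -/
noncomputable def Datum.scheme : Scheme.{u} := D.glue.glued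

/-- The projection. -/
noncomputable def Datum.proj : D.scheme ⟶ X := D.glue.toBase

/-- The affine pieces. -/
noncomputable def Datum.chart (U : X.AffineZariskiSite) :
    Spec (CommRingCat.of (ASRing p (D.c U))) ⟶ D.scheme := colimit.ι D.glue.functor U

theorem Datum.chart_eq (U : X.AffineZariskiSite) : D.chart U = D.glue.cover.f U := rfl

instance (U : X.AffineZariskiSite) : IsOpenImmersion (D.chart U) := D.glue.cover.map_prop U

theorem Datum.chart_proj (U : X.AffineZariskiSite) :
    D.chart U ≫ D.proj = Spec.map (CommRingCat.ofHom (AdjoinRoot.of (asPoly p (D.c U)))) ≫ U.2.fromSpec :=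
  colimit.ι_desc _ _

theorem Datum.map_chart {V U : X.AffineZariskiSite} (i : V ≤ U) :
    Spec.map (CommRingCat.ofHom (D.map (toOpens_mono i))) ≫ D.chart U = D.chart V :=
  colimit.w D.glue.functor (homOfLE i)

theorem Datum.proj_preimage (U : X.AffineZariskiSite) : D.proj ⁻¹ᵁ U.1 = (D.chart U).opensRange := by
  simpa using! D.glue.toBase_preimage_eq_opensRange_ι U

theorem Datum.isFinite_etale : IsFinite D.proj ∧ Etale D.proj := by
  have key : ∀ (P : MorphismProperty Scheme.{u}) [IsZariskiLocalAtTarget P],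
      (∀ (U : X.AffineZariskiSite),
        P (Spec.map (CommRingCat.ofHom (AdjoinRoot.of (asPoly p (D.c U)))))) → P D.proj := by
    intro P _ hP
    rw [IsZariskiLocalAtTarget.iff_of_iSup_eq_top (P := P) _ (iSup_affineOpens_eq_top X)]
    intro U
    let U' : X.AffineZariskiSite := ⟨U.1, U.2⟩
    let e := IsOpenImmersion.isoOfRangeEq (D.proj ⁻¹ᵁ (U : X.Opens)).ι (D.chart U')
      (by simpa using congr($(D.proj_preimage U').1))
    rw [← MorphismProperty.cancel_left_of_respectsIso P e.inv,
      ← MorphismProperty.cancel_right_of_respectsIso P _ U.2.isoSpec.hom]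
    convert! hP U'
    haveI : IsOpenImmersion U.2.fromSpec := U.2.isOpenImmersion_fromSpec
    rw [← cancel_mono U.2.fromSpec]
    simp only [Category.assoc, IsAffineOpen.isoSpec_hom_fromSpec, morphismRestrict_ι]
    rw [← Category.assoc, show e.inv ≫ (D.proj ⁻¹ᵁ (U : X.Opens)).ι = D.chart U' from
      IsOpenImmersion.isoOfRangeEq_inv_fac _ _ _, D.chart_proj]
  refine ⟨key @IsFinite fun U => ?_, key @Etale fun U => ?_⟩
  · rw [IsFinite.SpecMap_iff]
    exact RingHom.finite_algebraMap.2 (finite_ASRing p (D.c U))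
  · rw [HasRingHomProperty.Spec_iff (P := @Etale)]
    exact RingHom.etale_algebraMap.2 (etale_ASRing p (FrobSch.natCast_eq_zero_app X p U.1) (D.c U))

/-- A section of the cover gives compatible Artin–Schreier roots. -/
theorem Datum.roots_of_section (σ : X ⟶ D.scheme) (hσ : σ ≫ D.proj = 𝟙 X) :
    ∃ r : ∀ U : X.AffineZariskiSite, Γ(X, U.1),
      ∀ {V U : X.AffineZariskiSite} (h : V ≤ U), resA X (toOpens_mono h) (r U) = r V + D.a (toOpens_mono h) := by
  have hrange : ∀ U : X.AffineZariskiSite,
      Set.range (U.2.fromSpec ≫ σ) ⊆ Set.range (D.chart U) := by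
    rintro U _ ⟨x, rfl⟩
    have hmem : (U.2.fromSpec ≫ σ) x ∈ D.proj ⁻¹ᵁ U.1 := by
      show D.proj ((U.2.fromSpec ≫ σ) x) ∈ U.1
      rw [← Scheme.Hom.comp_apply, Category.assoc, hσ, Category.comp_id]
      exact U.2.range_fromSpec.le ⟨x, rfl⟩
    rw [D.proj_preimage] at hmem
    exact hmem
  let s : ∀ U : X.AffineZariskiSite, Spec Γ(X, U.1) ⟶ Spec (CommRingCat.of (ASRing p (D.c U))) :=
    fun U => IsOpenImmersion.lift (D.chart U) (U.2.fromSpec ≫ σ) (hrange U)
  let m : ∀ U : X.AffineZariskiSite, CommRingCat.of (ASRing p (D.c U)) ⟶ Γ(X, U.1) :=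
    fun U => Spec.preimage (s U)
  have hs : ∀ U, s U ≫ D.chart U = U.2.fromSpec ≫ σ := fun U => IsOpenImmersion.lift_fac _ _ _
  have hmα : ∀ U : X.AffineZariskiSite, CommRingCat.ofHom (AdjoinRoot.of (asPoly p (D.c U))) ≫ m U = 𝟙 _ := by
    intro U
    apply Spec.map_injective
    haveI : IsOpenImmersion U.2.fromSpec := U.2.isOpenImmersion_fromSpec
    rw [← cancel_mono U.2.fromSpec, Spec.map_comp, Category.assoc, ← D.chart_proj, Spec.map_id]
    simp only [m, Spec.map_preimage]
    rw [reassoc_of% hs, hσ, Category.comp_id]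
    exact (Category.id_comp _).symm
  have hnat : ∀ {V U : X.AffineZariskiSite} (h : V ≤ U),
      m U ≫ X.presheaf.map (homOfLE (toOpens_mono h)).op = CommRingCat.ofHom (D.map (toOpens_mono h)) ≫ m V := by
    intro V U h
    apply Spec.map_injective
    rw [← cancel_mono (D.chart U)]
    simp only [Spec.map_comp, Category.assoc, m, Spec.map_preimage, hs, D.map_chart h]
    rw [← Category.assoc, U.2.map_fromSpec V.2]
  refine ⟨fun U => (m U).hom (AdjoinRoot.root _), fun {V U} h => ?_⟩
  refine (ConcreteCategory.congr_hom (hnat h) (AdjoinRoot.root _)).trans ?_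
  show (m V).hom (D.map _ (AdjoinRoot.root _)) = _
  rw [Datum.map, asMap_root, map_add]
  congr 1
  exact ConcreteCategory.congr_hom (hmα V) _

/-- The cover as an object of the category of finite étale covers. -/
noncomputable def Datum.toFEt : FEt.Cat X :=
  MorphismProperty.Over.mk ⊤ D.proj D.isFinite_etale

/-- If every finite étale cover of `X` is split and `X` is nonempty, the cocycle is a coboundary. -/
theorem Datum.exists_roots [Nonempty X] (hsplit : ∃ (ι : Type u) (_ : Finite ι) (e : D.toFEt.left ≅ ∐ fun _ : ι => X),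
      ∀ i : ι, Sigma.ι (fun _ : ι => X) i ≫ e.inv ≫ D.toFEt.hom = 𝟙 X) :
    ∃ r : ∀ U : X.AffineZariskiSite, Γ(X, U.1),
      ∀ {V U : X.AffineZariskiSite} (h : V ≤ U), resA X (toOpens_mono h) (r U) = r V + D.a (toOpens_mono h) := by
  obtain ⟨ι, _, e, he⟩ := hsplit
  have : Nonempty ι := by
    obtain ⟨x⟩ := ‹Nonempty X›
    obtain ⟨_, ⟨U, hU, rfl⟩, hxU, -⟩ := X.isBasis_affineOpens.exists_subset_of_mem_open
      (a := x) (Set.mem_univ x) isOpen_univ
    let U' : X.AffineZariskiSite := ⟨U, hU⟩
    haveI : Nontrivial Γ(X, U'.1) := (X.presheaf.germ U x hxU).hom.domain_nontrivial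
    haveI : Nontrivial (ASRing p (D.c U')) := by
      have h0 : 0 < (AdjoinRoot.powerBasis' (monic_asPoly p (D.c U'))).dim :=
        Nat.pos_of_ne_zero fun h => by
          have hd : (asPoly p (D.c U')).natDegree = p := by
            rw [asPoly, Polynomial.natDegree_sub_eq_left_of_natDegree_lt, Polynomial.natDegree_X_pow]
            rw [Polynomial.natDegree_X_pow]
            exact lt_of_le_of_lt (Polynomial.natDegree_add_C.le.trans (Polynomial.natDegree_X_le))
              hp.out.one_lt
          rw [AdjoinRoot.powerBasis'_dim, hd] at h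
          exact hp.out.ne_zero h
      exact ⟨⟨_, 0, (AdjoinRoot.powerBasis' (monic_asPoly p (D.c U'))).basis.ne_zero ⟨0, h0⟩⟩⟩
    obtain ⟨y⟩ : Nonempty ↑(Spec (CommRingCat.of (ASRing p (D.c U')))) :=
      inferInstanceAs (Nonempty (PrimeSpectrum (ASRing p (D.c U'))))
    exact ⟨((sigmaMk (fun _ : ι => X)).symm (e.hom (D.chart U' y))).1⟩
  obtain ⟨i⟩ := this
  exact D.roots_of_section (Sigma.ι (fun _ : ι => X) i ≫ e.inv) (by rw [Category.assoc]; exact he i)

end Groth.Agent.H44AS
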