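import Groth.Agent.H44AS.Cover
import Groth.Agent.QCoh.CechStd
import Groth.Agent.QCoh.HHExact
import Groth.Agent.QCoh.VanIdeal
import Groth.Prelude.Def_Pi1
import Groth.Prelude.Def_W4c5isocrystsimpconnFrobH
import Mathlib.CategoryTheory.Abelian.GrothendieckCategory.EnoughInjectives
import Mathlib.CategoryTheory.Sites.LocallyBijective
import Mathlib.Algebra.Category.Grp.ForgetCorepresentable

/-! # Frobenius-fixed classes in `H^1(X, O_X)` vanish when every finite étale cover is split -/

universe u

open CategoryTheory CategoryTheory.Limits AlgebraicGeometry Opposite TopologicalSpace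
open CategoryTheory.Abelian

set_option linter.style.haveILetI false
set_option backward.isDefEq.respectTransparency false
set_option backward.isDefEq.respectTransparency.types false
set_option maxHeartbeats 1600000

namespace Groth.Agent.H44AS

variable (X : Scheme.{u}) (p : ℕ) [hp : Fact p.Prime] [FrobSch.IsCharP X p]

/-- Abelian sheaves on `X`. -/
abbrev AbX : Type (u + 1) := Sheaf (Opens.grothendieckTopology X) AddCommGrpCat.{u}

theorem resS_resS (F : (AbX X)) {W V U : X.Opens} (h₁ : W ≤ V) (h₂ : V ≤ U) (s : F.obj.obj (op U)) :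
    F.obj.map (homOfLE h₁).op (F.obj.map (homOfLE h₂).op s) = F.obj.map (homOfLE (h₁.trans h₂)).op s := by
  rw [← CategoryTheory.comp_apply, ← Functor.map_comp]
  rfl

theorem natS {F G : (AbX X)} (g : F ⟶ G) {V U : X.Opens} (h : V ≤ U) (s : F.obj.obj (op U)) :
    g.hom.app (op V) (F.obj.map (homOfLE h).op s) = G.obj.map (homOfLE h).op (g.hom.app (op U) s) :=
  ConcreteCategory.congr_hom (g.hom.naturality (homOfLE h).op) s

theorem fixed_eq_zero [X.IsSeparated] [Nonempty X] (hπ : ∀ Y : FEt.Cat X, Pi1.IsSplit Y)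
    (x : Coh.HH X (Coh.structureModule X) 1) (hx : W4c5isocrystsimpconn.frobH X p 1 x = x) : x = 0 := by
  let A : (AbX X) := Coh.toAb (Coh.structureModule X)
  let F : A ⟶ A := W4c5isocrystsimpconn.frobAb X p
  let ι : A ⟶ Injective.under A := Injective.ι A
  let π : Injective.under A ⟶ cokernel ι := cokernel.π ι
  let S : ShortComplex (AbX X) := ShortComplex.mk ι π (cokernel.condition ι)
  have hS : S.ShortExact :=
    { exact := ShortComplex.exact_of_g_is_cokernel _ (cokernelIsCokernel ι)
      mono_f := inferInstanceAs (Mono ι)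
      epi_g := inferInstanceAs (Epi π) }
  obtain ⟨q, rfl⟩ := Ext.covariant_sequence_exact₁ _ hS x (Ext.eq_zero_of_injective _) rfl
  let φ : Injective.under A ⟶ Injective.under A := Injective.factorThru (F ≫ ι) ι
  have hφ : ι ≫ φ = F ≫ ι := Injective.comp_factorThru _ _
  let Φ : cokernel ι ⟶ cokernel ι := cokernel.map ι ι F φ hφ
  have hΦ : π ≫ Φ = φ ≫ π := cokernel.π_desc _ _ _
  let f : S ⟶ S := ShortComplex.homMk F φ Φ hφ.symm hΦ.symm
  have hker : (Sheaf.H.map Φ 0 q - q).comp hS.extClass (zero_add 1) = 0 := by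
    rw [sub_eq_add_neg, Ext.add_comp, Ext.neg_comp, ← sub_eq_add_neg, sub_eq_zero]
    refine Eq.trans ?_ hx
    show _ = (q.comp hS.extClass (zero_add 1)).comp (Ext.mk₀ F) (add_zero 1)
    rw [Ext.comp_assoc_of_third_deg_zero, show hS.extClass.comp (Ext.mk₀ F) (add_zero 1) =
      (Ext.mk₀ Φ).comp hS.extClass (zero_add 1) from ShortComplex.ShortExact.extClass_naturality hS hS f]
    exact Ext.comp_assoc_of_second_deg_zero q (Ext.mk₀ Φ) hS.extClass (zero_add 1)
  obtain ⟨g, hg⟩ := Ext.covariant_sequence_exact₃ _ hS _ (zero_add 1) hker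
  let gs : (Injective.under A).obj.obj (op ⊤) := Sheaf.H.equiv₀ _ isTerminalTop g
  let qs : (cokernel ι).obj.obj (op ⊤) := Sheaf.H.equiv₀ _ isTerminalTop q
  have hgs : π.hom.app (op ⊤) gs = Φ.hom.app (op ⊤) qs - qs := by
    rw [Sheaf.H.equiv₀_naturality isTerminalTop π g,
      show Sheaf.H.map π 0 g = Sheaf.H.map Φ 0 q - q from hg, map_sub,
      ← Sheaf.H.equiv₀_naturality isTerminalTop Φ q]
  -- sections are exact on the left, and on affine opens also on the right
  let G : ∀ V : X.Opens, (AbX X) ⥤ AddCommGrpCat.{u} := fun V =>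
    sheafToPresheaf _ _ ⋙ (CategoryTheory.evaluation _ _).obj (op V)
  have hinj : ∀ V : X.Opens, Function.Injective (ι.hom.app (op V)) := by
    intro V
    haveI : PreservesLimitsOfShape WalkingCospan (G V) := inferInstance
    exact (AddCommGrpCat.mono_iff_injective _).1 (inferInstanceAs (Mono ((G V).map ι)))
  have hexact : ∀ (V : X.Opens) (e : (Injective.under A).obj.obj (op V)),
      π.hom.app (op V) e = 0 → ∃ a : A.obj.obj (op V), ι.hom.app (op V) a = e := by
    intro V
    have hT : (S.map (sheafToPresheaf _ _ ⋙ (CategoryTheory.evaluation _ _).obj (op V))).Exact := by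
      haveI : PreservesFiniteLimits (G V) := inferInstance
      exact ShortComplex.exact_of_f_is_kernel _
        (KernelFork.mapIsLimit _ hS.fIsKernel (G V))
    exact (ShortComplex.ab_exact_iff _).1 hT
  have hsurj : ∀ U : X.AffineZariskiSite,
      Function.Surjective (π.hom.app (op U.1)) := fun U =>
    QCoh.Ab.sections_surjective (T := S) (QCoh.stdCovers X) hS
      (fun V hV ι' W hW => by
        obtain ⟨_, _, f, hf, hfU⟩ := hW
        rw [show W = fun i => X.basicOpen (f i) from funext hfU]
        exact QCoh.acyclic_std (M := Coh.structureModule X) QCoh.isQCoh_structureModule hV f hf) U.2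
  choose e he using fun U : X.AffineZariskiSite => hsurj U ((cokernel ι).obj.map (homOfLE le_top).op qs)
  have hdiff : ∀ {V U : X.AffineZariskiSite} (h : V.1 ≤ U.1), ∃ a : Γ(X, V.1),
      ι.hom.app (op V.1) a = (Injective.under A).obj.map (homOfLE h).op (e U) - e V := by
    intro V U h
    refine hexact V.1 _ ?_
    rw [map_sub, natS X π, he, he, resS_resS]
    exact sub_self _
  choose a ha using @hdiff
  have hcU : ∀ U : X.AffineZariskiSite, ∃ c : Γ(X, U.1), ι.hom.app (op U.1) c =
      φ.hom.app (op U.1) (e U) - e U - (Injective.under A).obj.map (homOfLE le_top).op gs := by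
    intro U
    refine hexact U.1 _ ?_
    have h1 : π.hom.app (op U.1) (φ.hom.app (op U.1) (e U)) = Φ.hom.app (op U.1) (π.hom.app (op U.1) (e U)) :=
      ConcreteCategory.congr_hom (congrArg (fun m : Injective.under A ⟶ cokernel ι => m.hom.app (op U.1)) hΦ.symm) (e U)
    rw [map_sub, map_sub, h1, natS X π, hgs, he, natS X Φ, map_sub]
    exact sub_self _
  choose c hc using hcU
  have hFι : ∀ (V : X.Opens) (s : Γ(X, V)),
      φ.hom.app (op V) (ι.hom.app (op V) s) = ι.hom.app (op V) (show Γ(X, V) from s ^ p) := fun V s =>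
    ConcreteCategory.congr_hom (congrArg (fun m : A ⟶ Injective.under A => m.hom.app (op V)) hφ) s
  let D : Datum X p :=
    { c := c
      a := fun {V U} h => a h
      hc := fun {V U} h => hinj V.1 <| by
        refine Eq.trans (natS X ι h (c U)) ?_
        rw [hc, map_sub, map_sub, resS_resS, ← natS X φ,
          show (Injective.under A).obj.map (homOfLE h).op (e U) = ι.hom.app (op V.1) (a h) + e V by
            rw [ha h, sub_add_cancel],
          map_add, hFι]
        show _ = ι.hom.app (op V.1) (@HAdd.hAdd (A.obj.obj (op V.1)) (A.obj.obj (op V.1)) _ _ (c V)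
          (@HSub.hSub (A.obj.obj (op V.1)) (A.obj.obj (op V.1)) _ _ (show Γ(X, V.1) from a h ^ p) (a h)))
        rw [map_add, map_sub, hc]
        abel
      ha := fun {W V U} h₁ h₂ => hinj W.1 <| by
        show _ = ι.hom.app (op W.1) (@HAdd.hAdd (A.obj.obj (op W.1)) (A.obj.obj (op W.1)) _ _
          (A.obj.map (homOfLE h₁).op (a h₂)) (a h₁))
        rw [map_add, natS X ι, ha, ha, ha, map_sub, resS_resS]
        abel }
  obtain ⟨r, hr⟩ := D.exists_roots (hπ D.toFEt)
  -- the corrected local lifts glue to a global lift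
  let e' : ∀ U : X.AffineZariskiSite, (Injective.under A).obj.obj (op U.1) :=
    fun U => e U - ι.hom.app (op U.1) (r U)
  have he' : ∀ {V U : X.AffineZariskiSite} (h : V ≤ U),
      (Injective.under A).obj.map (homOfLE (Scheme.AffineZariskiSite.toOpens_mono h)).op (e' U) = e' V := by
    intro V U h
    show _ = e V - ι.hom.app (op V.1) (r V)
    rw [map_sub, ← natS X ι, show A.obj.map (homOfLE (Scheme.AffineZariskiSite.toOpens_mono h)).op (r U) =
      @HAdd.hAdd (A.obj.obj (op V.1)) (A.obj.obj (op V.1)) _ _ (r V)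
        (a (Scheme.AffineZariskiSite.toOpens_mono h)) from hr h, map_add, ha]
    abel
  let I' : TopCat.Sheaf AddCommGrpCat.{u} X.toPresheafedSpace.carrier := Injective.under A
  have hcompat : TopCat.Presheaf.IsCompatible I'.obj
      (fun U : X.AffineZariskiSite => U.1) e' := by
    intro U W
    refine I'.eq_of_locally_eq' (fun i : {D : X.AffineZariskiSite // D ≤ U ∧ D ≤ W} => i.1.1) (U.1 ⊓ W.1)
      (fun i => homOfLE (le_inf (Scheme.AffineZariskiSite.toOpens_mono i.2.1)
        (Scheme.AffineZariskiSite.toOpens_mono i.2.2))) ?_ _ _ fun i => ?_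
    · intro x hx
      obtain ⟨f, g, hfg, hxf⟩ := exists_basicOpen_le_affine_inter U.2 W.2 x hx
      exact Opens.mem_iSup.2 ⟨⟨U.basicOpen f, U.basicOpen_le f, g, hfg.symm⟩, hxf⟩
    · refine (resS_resS X (Injective.under A) _ _ (e' U)).trans ((he' i.2.1).trans ?_)
      exact ((resS_resS X (Injective.under A) _ _ (e' W)).trans (he' i.2.2)).symm
  obtain ⟨et, het, -⟩ := I'.existsUnique_gluing' (fun U : X.AffineZariskiSite => U.1) ⊤
    (fun U => homOfLE le_top) (fun x _ => by
      obtain ⟨_, ⟨U, hU, rfl⟩, hxU, -⟩ := X.isBasis_affineOpens.exists_subset_of_mem_open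
        (a := x) (Set.mem_univ x) isOpen_univ
      exact Opens.mem_iSup.2 ⟨⟨U, hU⟩, hxU⟩) e' hcompat
  have hq : π.hom.app (op ⊤) et = qs := by
    let Q' : TopCat.Sheaf AddCommGrpCat.{u} X.toPresheafedSpace.carrier := cokernel ι
    refine Q'.eq_of_locally_eq' (fun U : X.AffineZariskiSite => U.1) ⊤ (fun U => homOfLE le_top)
      (fun x _ => by
        obtain ⟨_, ⟨U, hU, rfl⟩, hxU, -⟩ := X.isBasis_affineOpens.exists_subset_of_mem_open
          (a := x) (Set.mem_univ x) isOpen_univ
        exact Opens.mem_iSup.2 ⟨⟨U, hU⟩, hxU⟩) _ _ fun U => ?_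
    refine (natS X π le_top et).symm.trans ?_
    rw [show (Injective.under A).obj.map (homOfLE le_top).op et = e' U from het U]
    show π.hom.app (op U.1) (e U - _) = _
    rw [map_sub, he, show π.hom.app (op U.1) (ι.hom.app (op U.1) (r U)) = 0 from
      ConcreteCategory.congr_hom (congrArg (fun m : A ⟶ cokernel ι => m.hom.app (op U.1))
        (cokernel.condition ι)) (r U), sub_zero]
  have hq' : q = Sheaf.H.map π 0 ((Sheaf.H.equiv₀ _ isTerminalTop).symm et) := by
    apply (Sheaf.H.equiv₀ _ (isTerminalTop (α := X.Opens))).injective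
    rw [← Sheaf.H.equiv₀_naturality, AddEquiv.apply_symm_apply, hq]
  rw [hq', Sheaf.H.map_apply, Ext.comp_assoc_of_second_deg_zero]
  rw [show (Ext.mk₀ π).comp hS.extClass (zero_add 1) = 0 from hS.comp_extClass]
  exact Ext.comp_zero _ _ _ _ _

end Groth.Agent.H44AS
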