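import Groth.Prelude.Def_W4c5isocrystsimpconnFrobH
import Groth.Agent.QCoh.VanIdeal

/-! # Semilinearity of the Frobenius action on cohomology -/

universe u

open CategoryTheory AlgebraicGeometry Opposite TopologicalSpace

namespace Groth.Agent.H44AS

variable (X : Scheme.{u}) (p : ℕ) [Fact p.Prime] [FrobSch.IsCharP X p]

theorem smulAb_frobAb (r : Coh.Γtop X) :
    Coh.smulAb (Coh.structureModule X) r ≫ W4c5isocrystsimpconn.frobAb X p =
      W4c5isocrystsimpconn.frobAb X p ≫ Coh.smulAb (Coh.structureModule X) (r ^ p) := by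
  ext U m
  show ((show Γ(X, U.unop) from Coh.resTop X U r) * (show Γ(X, U.unop) from m)) ^ p =
    (show Γ(X, U.unop) from Coh.resTop X U (r ^ p)) * (show Γ(X, U.unop) from m) ^ p
  rw [map_pow]
  exact mul_pow _ _ _

theorem frobH_smul (k : Type u) [Field k] [X.Over (Spec (CommRingCat.of k))] (n : ℕ) (c : k)
    (x : Coh.HH X (Coh.structureModule X) n) :
    W4c5isocrystsimpconn.frobH X p n (c • x) = c ^ p • W4c5isocrystsimpconn.frobH X p n x := by
  show Sheaf.H.map _ n (Sheaf.H.map (Coh.smulAb _ (Coh.toGlobal (X ↘ Spec (CommRingCat.of k)) c)) n x) =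
    Sheaf.H.map (Coh.smulAb _ (Coh.toGlobal (X ↘ Spec (CommRingCat.of k)) (c ^ p))) n (Sheaf.H.map _ n x)
  rw [← Sheaf.H.map_comp_apply, ← Sheaf.H.map_comp_apply, smulAb_frobAb, map_pow]

end Groth.Agent.H44AS
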