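import Mathlib.FieldTheory.IsAlgClosed.Basic
import Mathlib.LinearAlgebra.FiniteDimensional.Basic
import Mathlib.FieldTheory.Perfect
import Mathlib.RingTheory.Artinian.Module
import Mathlib.LinearAlgebra.Dimension.OrzechProperty
import Mathlib.LinearAlgebra.Dimension.Finite

/-! # Fixed vectors of semilinear Frobenius operators over an algebraically closed field -/

namespace Groth.Agent.H44AS

open Polynomial
set_option linter.unusedSectionVars false
set_option linter.style.haveILetI false

variable {k : Type*} [Field k] [IsAlgClosed k] (p : ℕ) [hp : Fact p.Prime]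
variable {V : Type*} [AddCommGroup V] [Module k V] [FiniteDimensional k V]
variable (F : V →+ V) (hF : ∀ (c : k) (v : V), F (c • v) = c ^ p • F v)

/-- The polynomials `Q_i` with `Q_0 = a_0 T^p` and `Q_(i+1) = Q_i^p + a_(i+1) T^p`. -/
noncomputable def qPoly (a : ℕ → k) : ℕ → k[X]
  | 0 => C (a 0) * X ^ p
  | i + 1 => qPoly a i ^ p + C (a (i + 1)) * X ^ p

theorem natDegree_qPoly (a : ℕ → k) (ha : a 0 ≠ 0) (i : ℕ) : (qPoly p a i).natDegree = p ^ (i + 1) := by
  induction i with
  | zero => rw [qPoly, natDegree_C_mul_X_pow _ _ ha, zero_add, pow_one]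
  | succ i ih =>
    rw [qPoly, natDegree_add_eq_left_of_natDegree_lt, natDegree_pow, ih, ← pow_succ']
    rw [natDegree_pow, ih, ← pow_succ']
    refine lt_of_le_of_lt (natDegree_C_mul_X_pow_le _ _) ?_
    calc p = p ^ 1 := (pow_one p).symm
      _ < p ^ (i + 1 + 1) := Nat.pow_lt_pow_right hp.out.one_lt (by omega)

theorem dvd_qPoly (a : ℕ → k) (i : ℕ) : X ^ 2 ∣ qPoly p a i := by
  induction i with
  | zero => exact Dvd.dvd.mul_left (pow_dvd_pow X hp.out.two_le) _
  | succ i ih =>
    exact dvd_add (ih.trans (dvd_pow_self _ hp.out.ne_zero)) (Dvd.dvd.mul_left (pow_dvd_pow X hp.out.two_le) _)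

theorem exists_root_qPoly (a : ℕ → k) (ha : a 0 ≠ 0) (i : ℕ) :
    ∃ t : k, t ≠ 0 ∧ (qPoly p a i).eval t = t := by
  obtain ⟨R, hR⟩ := dvd_qPoly p a i
  have h2 : 1 < p ^ (i + 1) := Nat.one_lt_pow (by omega) hp.out.one_lt
  have hR0 : R ≠ 0 := fun h => by
    have := natDegree_qPoly p a ha i
    rw [hR, h, mul_zero, natDegree_zero] at this
    omega
  have hdeg : 0 < (X * R - 1 : k[X]).natDegree := by
    rw [← C_1, natDegree_sub_C, natDegree_X_mul hR0]
    omega
  obtain ⟨t, ht⟩ := IsAlgClosed.exists_root (X * R - 1 : k[X])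
    (fun h => by rw [natDegree_eq_zero_iff_degree_le_zero.2 h.le] at hdeg; omega)
  simp only [IsRoot.def, eval_sub, eval_mul, eval_X, eval_one, sub_eq_zero] at ht
  refine ⟨t, fun h => by rw [h, zero_mul] at ht; exact zero_ne_one ht, ?_⟩
  rw [hR, eval_mul, eval_pow, eval_X, pow_two, mul_assoc, ht, mul_one]

/-- The iterates of `F` as subspaces. -/
noncomputable def rangeIter [ExpChar k p] [PerfectRing k p] (b : ℕ) : Submodule k V where
  carrier := Set.range (F^[b])
  add_mem' := by
    rintro _ _ ⟨v, rfl⟩ ⟨w, rfl⟩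
    exact ⟨v + w, iterate_map_add F b v w⟩
  zero_mem' := ⟨0, iterate_map_zero F b⟩
  smul_mem' := by
    rintro c _ ⟨v, rfl⟩
    induction b generalizing c v with
    | zero => exact ⟨c • v, rfl⟩
    | succ b ih =>
      obtain ⟨d, rfl⟩ := surjective_frobenius k p c
      obtain ⟨w, hw⟩ := ih d v
      refine ⟨w, ?_⟩
      rw [Function.iterate_succ_apply', hw, hF, Function.iterate_succ_apply']
      rfl

include hF in
/-- A semilinear Frobenius operator that is not nilpotent fixes a nonzero vector. -/
theorem exists_fixed_of_not_nilpotent [CharP k p] (hnil : ∀ b : ℕ, ∃ v, F^[b] v ≠ 0) :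
    ∃ v : V, v ≠ 0 ∧ F v = v := by
  haveI : ExpChar k p := ExpChar.prime hp.out
  haveI : PerfectRing k p := PerfectField.toPerfectRing p
  have hanti : Antitone (rangeIter p F hF) := antitone_nat_of_succ_le fun b => by
    rintro _ ⟨v, rfl⟩
    exact ⟨F v, by rw [Function.iterate_succ_apply]⟩
  obtain ⟨b, hb⟩ := IsArtinian.monotone_stabilizes (R := k) (M := V)
    ⟨fun n => OrderDual.toDual (rangeIter p F hF n), hanti⟩
  have hst : rangeIter p F hF b = rangeIter p F hF (b + 1) := hb (b + 1) (by omega)
  set W := rangeIter p F hF b with hW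
  have hmem : ∀ v ∈ W, F v ∈ W := by
    rintro _ ⟨v, rfl⟩
    exact ⟨F v, by rw [← Function.iterate_succ_apply, Function.iterate_succ_apply']⟩
  have hsurj : ∀ w ∈ W, ∃ v ∈ W, F v = w := by
    intro w hw
    rw [hst] at hw
    obtain ⟨v, rfl⟩ := hw
    exact ⟨F^[b] v, ⟨v, rfl⟩, (Function.iterate_succ_apply' F b v).symm⟩
  let G : W →+ W := AddMonoidHom.mk' (fun v => ⟨F v, hmem v v.2⟩) fun v w => Subtype.ext (map_add F _ _)
  have hGs : Function.Surjective G := fun w => by
    obtain ⟨v, hv, hvw⟩ := hsurj w w.2
    exact ⟨⟨v, hv⟩, Subtype.ext hvw⟩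
  have hGi : Function.Injective G := by
    let L : W →ₛₗ[frobenius k p] W :=
      { toFun := G, map_add' := map_add G,
        map_smul' := fun c v => Subtype.ext (hF c v) }
    haveI : RingHomSurjective (frobenius k p) := ⟨surjective_frobenius k p⟩
    intro v w hvw
    by_contra hne
    let B := Module.finBasis k W
    have hspan : Submodule.span k (Set.range fun i => L (B i)) = ⊤ := by
      rw [eq_top_iff]
      intro y _
      obtain ⟨x, rfl⟩ := hGs y
      rw [← B.sum_repr x]
      change L _ ∈ _
      rw [map_sum]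
      refine Submodule.sum_mem _ fun i _ => ?_
      rw [LinearMap.map_smulₛₗ]
      exact Submodule.smul_mem _ _ (Submodule.subset_span ⟨i, rfl⟩)
    have hli := linearIndependent_of_top_le_span_of_card_eq_finrank hspan.ge (Fintype.card_fin _)
    refine hne (sub_eq_zero.1 (B.repr.map_eq_zero_iff.1 (Finsupp.ext fun i => ?_)))
    have h0 : L (v - w) = 0 := by rw [map_sub]; exact sub_eq_zero.2 hvw
    rw [← B.sum_repr (v - w), map_sum] at h0
    simp only [LinearMap.map_smulₛₗ] at h0
    exact (injective_iff_map_eq_zero _).1 (frobenius_inj k p) _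
      (Fintype.linearIndependent_iff.1 hli _ h0 i)
  obtain ⟨v₀, hv₀⟩ := hnil b
  set w : W := ⟨F^[b] v₀, v₀, rfl⟩ with hw
  have hw0 : w ≠ 0 := fun h => hv₀ (congrArg Subtype.val h)
  -- the first dependence among the iterates
  have hex : ∃ n, G^[n] w ∈ Submodule.span k (Set.range fun i : Fin n => G^[i] w) := by
    by_contra h
    push Not at h
    have key : ∀ n, LinearIndependent k (fun i : Fin n => G^[i] w) := by
      intro n
      induction n with
      | zero => exact linearIndependent_empty_type
      | succ n ih => exact linearIndependent_finSucc'.2 ⟨ih, by simpa [Fin.init_def, Function.comp_def] using h n⟩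
    have := (key (Module.finrank k W + 1)).fintype_card_le_finrank
    rw [Fintype.card_fin] at this
    omega
  classical
  obtain ⟨m, hm⟩ : ∃ m, Nat.find hex = m + 1 := Nat.exists_eq_succ_of_ne_zero fun h0 => by
    have := Nat.find_spec hex
    rw [h0] at this
    rw [Set.range_eq_empty, Submodule.span_empty, Submodule.mem_bot] at this
    exact hw0 this
  have hlin : LinearIndependent k (fun i : Fin (m + 1) => G^[i] w) := by
    have key : ∀ n ≤ m + 1, LinearIndependent k (fun i : Fin n => G^[i] w) := by
      intro n hn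
      induction n with
      | zero => exact linearIndependent_empty_type
      | succ n ih =>
        exact linearIndependent_finSucc'.2 ⟨ih (by omega), by
          simpa [Fin.init_def, Function.comp_def] using Nat.find_min hex (show n < Nat.find hex by omega)⟩
    exact key _ le_rfl
  have hspec := Nat.find_spec hex
  rw [hm] at hspec
  obtain ⟨a, ha⟩ := (Submodule.mem_span_range_iff_exists_fun k).1 hspec
  have hG : ∀ (c : k) (v : W), G (c • v) = c ^ p • G v := fun c v => Subtype.ext (hF c v)
  have ha0 : a 0 ≠ 0 := by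
    intro h0
    choose d hd using fun i => surjective_frobenius k p (a (Fin.succ i))
    refine Nat.find_min hex (show m < Nat.find hex by omega)
      ((Submodule.mem_span_range_iff_exists_fun k).2 ⟨d, hGi ?_⟩)
    rw [← Function.iterate_succ_apply' G m w, ← ha, Fin.sum_univ_succ, h0, zero_smul, zero_add, map_sum]
    refine Finset.sum_congr rfl fun i _ => ?_
    rw [hG, ← hd i, Fin.val_succ, Function.iterate_succ_apply']
    rfl
  let a' : ℕ → k := fun i => if h : i < m + 1 then a ⟨i, h⟩ else 0
  obtain ⟨t, ht0, ht⟩ := exists_root_qPoly p a' (by simpa [a'] using ha0) m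
  let c : ℕ → k := fun i => (qPoly p a' i).eval t
  let v : W := ∑ i : Fin (m + 1), c i • G^[i] w
  refine ⟨v, fun h => ?_, congrArg Subtype.val (show G v = v from ?_)⟩
  · have := Fintype.linearIndependent_iff.1 hlin (fun i => c i) (Subtype.ext h) (Fin.last m)
    exact ht0 (ht.symm.trans this)
  · have hGs' : G v = ∑ i : Fin (m + 1), c i ^ p • G^[i + 1] w := by
      simp only [v, map_sum, hG, Function.iterate_succ_apply']
    rw [hGs', Fin.sum_univ_castSucc]
    simp only [Fin.val_last, Fin.val_castSucc]
    rw [← ha, Finset.smul_sum]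
    show _ = ∑ i : Fin (m + 1), c i • G^[i] w
    rw [Fin.sum_univ_succ, Fin.sum_univ_succ, ← add_assoc, add_comm _ (c m ^ p • a 0 • G^[(0 : Fin (m + 1))] w),
      add_assoc, ← Finset.sum_add_distrib]
    have hcm : c m = t := ht
    congr 1
    · rw [smul_smul, hcm]
      congr 1
      simp only [c, Fin.val_zero, qPoly, eval_mul, eval_C, eval_pow, eval_X]
      rw [show a' 0 = a 0 from dif_pos m.succ_pos, mul_comm]
    · refine Finset.sum_congr rfl fun i _ => ?_
      simp only [Fin.val_succ]
      rw [smul_smul, ← add_smul, hcm]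
      congr 1
      simp only [c, qPoly, eval_add, eval_mul, eval_C, eval_pow, eval_X]
      rw [show a' (i + 1) = a i.succ from dif_pos (Nat.succ_lt_succ i.is_lt), mul_comm (a i.succ), add_comm]

end Groth.Agent.H44AS
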